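import Cfsg.Agent.Lib.Fi22Unique49.CommonPair

/-!
# Type M(22): the common neighbours of a non-commuting pair contain no chain of seven
-/

set_option autoImplicit false

namespace Cfsg.Agent.Lib.Fi22Unique49

open Cfsg Cfsg.Agent.Lib.PSUAut Cfsg.Agent.Lib.ThreeTransp Cfsg.Agent.Lib.ThreeTransp.PSUSix
  Cfsg.Agent.Lib.M22Struct66

attribute [local instance] Classical.propDecidable

/-- A bit as an element of the field. -/
def bit (F : Type) [Field F] (b : Bool) : F := if b then 1 else 0

/-- Neighbours in a path. -/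
def adjPath (i j : Fin 7) : Bool := i.val + 1 == j.val || j.val + 1 == i.val

/-- The pairing of two partial sums along a path. -/
def sumPair (j k : Fin 8) : Bool := j != k && j != 0 && k != 0

/-- The twenty-eight pairs. -/
def ends (r : Fin 28) : Fin 8 × Fin 8 :=
  [(0, 1), (0, 2), (0, 3), (0, 4), (0, 5), (0, 6), (0, 7), (1, 2), (1, 3), (1, 4), (1, 5), (1, 6), (1, 7), (2, 3), (2, 4), (2, 5), (2, 6), (2, 7), (3, 4), (3, 5), (3, 6), (3, 7), (4, 5), (4, 6), (4, 7), (5, 6), (5, 7), (6, 7)].getD r.val (0, 0)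

/-- The pairing of two of the twenty-eight transpositions. -/
def pairBit (r s : Fin 28) : Bool :=
  (sumPair (ends r).1 (ends s).1 ^^ sumPair (ends r).1 (ends s).2) ^^
    (sumPair (ends r).2 (ends s).1 ^^ sumPair (ends r).2 (ends s).2)

theorem ends_lt : ∀ r, (ends r).1.val < (ends r).2.val := by decide +kernel

theorem pairBit_eq : ∀ r s, pairBit r s = !(disj r s || r == s) := by decide +kernel

theorem pairBit_sep : ∀ r s, r ≠ s → ∃ t, pairBit r t ≠ pairBit s t := by decide +kernel

theorem disj_ne : ∀ r s, disj r s = true → r ≠ s := by decide +kernel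

theorem step_bit : ∀ (j : Fin 8) (k : Fin 7), j.val < k.val →
    ((sumPair j k.castSucc ^^ sumPair j k.succ) ^^
      (sumPair k.castSucc k.castSucc ^^ sumPair k.castSucc k.succ)) = true := by decide +kernel

variable {G : Type*} [Group G] [Finite G] {D : Set G} {F : Type} [Field F] [Fintype F]

local notation "V" => (Fin 6 → F)
local notation "B" => Cfsg.hermForm 6 F 2

theorem bit_xor (hD : Counted D F) (a b : Bool) : bit F (a ^^ b) = bit F a + bit F b := by
  cases a <;> cases b <;> simp [bit, two_zero hD]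

theorem bit_eq_zero {b : Bool} : bit F b = (0 : F) ↔ b = false := by cases b <;> simp [bit]

theorem no_chain (hD : Counted D F) {g f : G} (hg : g ∈ D) (hf : f ∈ D) (hgf : ¬ Commute g f)
    (x : Fin 7 → G) (hmem : ∀ j, x j ∈ com2 D g f)
    (hpath : ∀ i j, Commute (x i) (x j) ↔ adjPath i j = false) : False := by
  have hh := herm (n := 6) (card' hD.card)
  obtain ⟨C⟩ := hD.chart g hg
  have hn : ∀ i j, adjPath i j = true → ¬ Commute (x i) (x j) := fun i j h c => by
    rw [(hpath i j).1 c] at h; exact Bool.false_ne_true h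
  have a0 := at_pt hD (C := C) (hmem 0).1
  set v0 := C.pt (hmem 0).1
  obtain ⟨v1, a1, b1⟩ := exists_child hD hg a0 (hmem 1).1 (hn 0 1 (by decide))
  obtain ⟨v2, a2, b2⟩ := exists_child hD hg a1 (hmem 2).1 (hn 1 2 (by decide))
  obtain ⟨v3, a3, b3⟩ := exists_child hD hg a2 (hmem 3).1 (hn 2 3 (by decide))
  obtain ⟨v4, a4, b4⟩ := exists_child hD hg a3 (hmem 4).1 (hn 3 4 (by decide))
  obtain ⟨v5, a5, b5⟩ := exists_child hD hg a4 (hmem 5).1 (hn 4 5 (by decide))
  obtain ⟨v6, a6, b6⟩ := exists_child hD hg a5 (hmem 6).1 (hn 5 6 (by decide))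
  let v : Fin 7 → V := ![v0, v1, v2, v3, v4, v5, v6]
  have hat : ∀ i, At C (x i) (v i) := by
    intro i
    fin_cases i
    exacts [a0, a1, a2, a3, a4, a5, a6]
  have hsucc : ∀ i j : Fin 7, i.val + 1 = j.val → B (v i) (v j) = 1 := by
    intro i j h
    fin_cases i <;> fin_cases j <;> first | (exfalso; revert h; decide) | assumption
  have hgram : ∀ i j, B (v i) (v j) = bit F (adjPath i j) := by
    intro i j
    rcases hb : adjPath i j with _ | _
    · exact (hat i).ortho hD hg (hat j) ((hpath i j).2 hb)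
    · rcases (by simpa [adjPath] using hb : i.val + 1 = j.val ∨ j.val + 1 = i.val) with h | h
      · exact hsucc i j h
      · exact B_comm hD hg (hsucc j i h)
  let w : Fin 8 → V := ![0, v0, v0 + v1, v0 + v1 + v2, v0 + v1 + v2 + v3, v0 + v1 + v2 + v3 + v4,
    v0 + v1 + v2 + v3 + v4 + v5, v0 + v1 + v2 + v3 + v4 + v5 + v6]
  have hw : ∀ j k, B (w j) (w k) = bit F (sumPair j k) := by
    have t := two_zero hD
    have g00 : B v0 v0 = 0 := hgram 0 0
    have g01 : B v0 v1 = 1 := hgram 0 1
    have g02 : B v0 v2 = 0 := hgram 0 2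
    have g03 : B v0 v3 = 0 := hgram 0 3
    have g04 : B v0 v4 = 0 := hgram 0 4
    have g05 : B v0 v5 = 0 := hgram 0 5
    have g06 : B v0 v6 = 0 := hgram 0 6
    have g10 : B v1 v0 = 1 := hgram 1 0
    have g11 : B v1 v1 = 0 := hgram 1 1
    have g12 : B v1 v2 = 1 := hgram 1 2
    have g13 : B v1 v3 = 0 := hgram 1 3
    have g14 : B v1 v4 = 0 := hgram 1 4
    have g15 : B v1 v5 = 0 := hgram 1 5
    have g16 : B v1 v6 = 0 := hgram 1 6
    have g20 : B v2 v0 = 0 := hgram 2 0
    have g21 : B v2 v1 = 1 := hgram 2 1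
    have g22 : B v2 v2 = 0 := hgram 2 2
    have g23 : B v2 v3 = 1 := hgram 2 3
    have g24 : B v2 v4 = 0 := hgram 2 4
    have g25 : B v2 v5 = 0 := hgram 2 5
    have g26 : B v2 v6 = 0 := hgram 2 6
    have g30 : B v3 v0 = 0 := hgram 3 0
    have g31 : B v3 v1 = 0 := hgram 3 1
    have g32 : B v3 v2 = 1 := hgram 3 2
    have g33 : B v3 v3 = 0 := hgram 3 3
    have g34 : B v3 v4 = 1 := hgram 3 4
    have g35 : B v3 v5 = 0 := hgram 3 5
    have g36 : B v3 v6 = 0 := hgram 3 6
    have g40 : B v4 v0 = 0 := hgram 4 0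
    have g41 : B v4 v1 = 0 := hgram 4 1
    have g42 : B v4 v2 = 0 := hgram 4 2
    have g43 : B v4 v3 = 1 := hgram 4 3
    have g44 : B v4 v4 = 0 := hgram 4 4
    have g45 : B v4 v5 = 1 := hgram 4 5
    have g46 : B v4 v6 = 0 := hgram 4 6
    have g50 : B v5 v0 = 0 := hgram 5 0
    have g51 : B v5 v1 = 0 := hgram 5 1
    have g52 : B v5 v2 = 0 := hgram 5 2
    have g53 : B v5 v3 = 0 := hgram 5 3
    have g54 : B v5 v4 = 1 := hgram 5 4
    have g55 : B v5 v5 = 0 := hgram 5 5
    have g56 : B v5 v6 = 1 := hgram 5 6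
    have g60 : B v6 v0 = 0 := hgram 6 0
    have g61 : B v6 v1 = 0 := hgram 6 1
    have g62 : B v6 v2 = 0 := hgram 6 2
    have g63 : B v6 v3 = 0 := hgram 6 3
    have g64 : B v6 v4 = 0 := hgram 6 4
    have g65 : B v6 v5 = 1 := hgram 6 5
    have g66 : B v6 v6 = 0 := hgram 6 6
    intro j k
    fin_cases j <;> fin_cases k <;>
      simp [w, bit, sumPair, hh.zero_left, hh.zero_right, hh.add_left, hh.add_right, t,
        g00, g01, g02, g03, g04, g05, g06, g10, g11, g12, g13, g14,
        g15, g16, g20, g21, g22, g23, g24, g25, g26, g30, g31, g32,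
        g33, g34, g35, g36, g40, g41, g42, g43, g44, g45, g46, g50,
        g51, g52, g53, g54, g55, g56, g60, g61, g62, g63, g64, g65,
        g66]
  have hv : ∀ k : Fin 7, v k = w k.castSucc + w k.succ := by
    intro k
    fin_cases k <;> simp [v, w, ← add_assoc, vec_add_self hD.card]
  have hpb : ∀ r s, B (w (ends r).1 + w (ends r).2) (w (ends s).1 + w (ends s).2) = bit F (pairBit r s) := by
    intro r s
    simp only [pairBit, bit_xor hD, hh.add_left, hh.add_right, hw]
    try abel
  have hex : ∀ (n : ℕ) (j k : Fin 8), j.val + n + 1 = k.val →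
      ∃ y ∈ com2 D g f, At C y (w j + w k) := by
    intro n
    induction n with
    | zero =>
      intro j k h
      have hj : j.val < 7 := by omega
      refine ⟨x ⟨j, hj⟩, hmem _, ?_⟩
      have e := hat ⟨j, hj⟩
      rw [hv] at e
      convert e using 3 <;> ext <;> simp [Fin.castSucc, Fin.succ] <;> omega
    | succ n ih =>
      intro j k h
      have hk : k.val - 1 < 7 := by omega
      set k' : Fin 7 := ⟨k.val - 1, hk⟩ with hk'
      have e1 : k'.succ = k := Fin.ext (by simp [hk']; omega)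
      obtain ⟨y, hy, ay⟩ := ih j k'.castSucc (by simp [hk']; omega)
      refine ⟨x k' * y * x k', ?_, ?_⟩
      · have hS := hD.set
        have hcj : ∀ {z : G}, z ∈ D → y ∈ nb D z → x k' ∈ nb D z → x k' * y * x k' ∈ nb D z := by
          intro z _ h1 h2
          have h3 := conj_mem_nb hD.conj (x k') h1
          rwa [inv_eq hS h2.1, ← h2.2.2.eq, mul_assoc, mul_self hS h2.1, mul_one] at h3
        exact ⟨hcj hg hy.1 (hmem k').1, hcj hf hy.2 (hmem k').2⟩
      · have hone : B (w j + w k'.castSucc) (v k') = 1 := by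
          rw [hv k', hh.add_left, hh.add_right, hh.add_right, hw, hw, hw, hw, ← bit_xor hD, ← bit_xor hD,
            ← bit_xor hD, step_bit j k' (by simp [hk']; omega)]
          rfl
        have := (hat k').conj_one hD hg ay hone
        rwa [hv k', add_assoc, ← add_assoc (w k'.castSucc), vec_add_self hD.card, zero_add, e1] at this
  have hP : ∀ r, ∃ y ∈ com2 D g f, At C y (w (ends r).1 + w (ends r).2) := fun r =>
    hex ((ends r).2.val - (ends r).1.val - 1) _ _ (by have := ends_lt r; omega)
  choose P hPS hPat using hP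
  have hcomm : ∀ r s, Commute (P r) (P s) ↔ pairBit r s = false := fun r s => by
    rw [(hPat r).commute_iff hD hg (hPat s), hpb, bit_eq_zero]
  have hinj : Function.Injective P := by
    intro r s e
    by_contra hne
    obtain ⟨t, ht⟩ := pairBit_sep r s hne
    have := (hcomm r t).symm.trans (e ▸ hcomm s t)
    revert this ht
    cases pairBit r t <;> cases pairBit s t <;> simp
  refine (graph126 hD hg hf hgf).no_eight P (fun r => mem_fin.2 (hPS r)) hinj fun r s => ⟨fun h => ?_, fun h => ?_⟩
  · have hb := (hcomm r s).1 h.2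
    rw [pairBit_eq] at hb
    simp at hb
    by_contra hd'
    exact h.1 (congrArg P (hb (Bool.eq_false_iff.2 hd')))
  · refine ⟨fun e => disj_ne r s h (hinj e), (hcomm r s).2 ?_⟩
    rw [pairBit_eq, h]
    rfl

end Cfsg.Agent.Lib.Fi22Unique49
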